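import Groth.Prelude.Def_EGA41
import Groth.Prelude.Def_CAlgX
import Groth.Agent.S2471
import Mathlib.RingTheory.Kaehler.Basic
import Mathlib.RingTheory.Ideal.Cotangent

/-! # The imperfection module and adically formally smooth algebras -/

set_option autoImplicit false
set_option linter.style.haveILetI false
universe u

namespace Groth.Agent.ImperfFS3

open TensorProduct KaehlerDifferential IsLocalRing

variable {k K : Type u} [Field k] [Field K] [Algebra k K]

theorem ext_D {M : Type u} [AddCommGroup M] [Module K M] (f g : K ⊗[k] Ω[k⁄ℤ] →ₗ[K] M)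
    (h : ∀ x, f (1 ⊗ₜ D ℤ k x) = g (1 ⊗ₜ D ℤ k x)) : f = g := by
  refine LinearMap.ext fun z => ?_
  induction z using TensorProduct.induction_on with
  | zero => simp
  | add _ _ hx hy => rw [map_add, map_add, hx, hy]
  | tmul r ω =>
    have hω : ω ∈ Submodule.span k (Set.range (D ℤ k)) := by rw [span_range_derivation]; trivial
    rw [show r ⊗ₜ[k] ω = r • ((1 : K) ⊗ₜ[k] ω) by rw [smul_tmul', smul_eq_mul, mul_one], map_smul, map_smul]
    congr 1
    induction hω using Submodule.span_induction with
    | mem y hy => obtain ⟨x, rfl⟩ := hy; exact h x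
    | zero => simp
    | add _ _ _ _ hx hy => rw [tmul_add, map_add, map_add, hx, hy]
    | smul c y _ hy => rw [tmul_smul, ← algebraMap_smul K c, map_smul, map_smul, hy]

variable (k K) (A : Type u) [CommRing A] [Algebra k A] [Algebra A K] [IsScalarTower k A K]

/-- The map from base differentials to residual differentials. -/
noncomputable def baseMap : K ⊗[k] Ω[k⁄ℤ] →ₗ[K] K ⊗[A] Ω[A⁄ℤ] :=
  LinearMap.liftBaseChange K (((TensorProduct.mk A K Ω[A⁄ℤ] 1).restrictScalars k).comp (KaehlerDifferential.map ℤ ℤ k A))

theorem baseMap_D (x : k) : baseMap k K A (1 ⊗ₜ D ℤ k x) = 1 ⊗ₜ D ℤ A (algebraMap k A x) := by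
  rw [baseMap, LinearMap.liftBaseChange_tmul, one_smul]
  show (1 : K) ⊗ₜ[A] KaehlerDifferential.map ℤ ℤ k A (D ℤ k x) = _
  rw [map_D]

theorem mapBaseChange_baseMap (z : K ⊗[k] Ω[k⁄ℤ]) :
    mapBaseChange ℤ A K (baseMap k K A z) = mapBaseChange ℤ k K z := by
  refine LinearMap.congr_fun (ext_D ((mapBaseChange ℤ A K).comp (baseMap k K A)) (mapBaseChange ℤ k K) fun x => ?_) z
  rw [LinearMap.comp_apply, baseMap_D, mapBaseChange_tmul, mapBaseChange_tmul, map_D, map_D,
    ← IsScalarTower.algebraMap_apply]

theorem injective_baseMap_iff :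
    Function.Injective (baseMap k K A) ↔ Function.Injective ((mapBaseChange ℤ k A).lTensor K) := by
  let c := AlgebraTensorModule.cancelBaseChange k A A K Ω[k⁄ℤ]
  have h : ∀ z, (mapBaseChange ℤ k A).lTensor K (c.symm z) = baseMap k K A z := fun z => by
    induction z using TensorProduct.induction_on with
    | zero => simp
    | add _ _ hx hy => rw [map_add, map_add, map_add, hx, hy]
    | tmul r ω =>
      rw [AlgebraTensorModule.cancelBaseChange_symm_tmul, LinearMap.lTensor_tmul, mapBaseChange_tmul, one_smul,
        baseMap, LinearMap.liftBaseChange_tmul, LinearMap.comp_apply]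
      simp [smul_tmul']
  constructor
  · intro hi a b hab
    rw [← c.symm_apply_apply a, ← c.symm_apply_apply b, h, h] at hab
    exact c.injective (hi hab)
  · intro hi a b hab
    rw [← h, ← h] at hab
    exact c.symm.injective (hi hab)

variable {k K A}

/-- Derivations of the algebra separating the imperfection module give injectivity. -/
theorem injective_baseMap_of_derivations {ι : Type*} (g : ι → A →+ K)
    (hg : ∀ l a b, g l (a * b) = algebraMap A K a * g l b + algebraMap A K b * g l a)
    (ℓ : ι → (K ⊗[k] Ω[k⁄ℤ] →ₗ[K] K)) (hℓ : ∀ x l, g l (algebraMap k A x) = ℓ l (1 ⊗ₜ D ℤ k x))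
    (hinj : ∀ z ∈ EGA41.imperfection ℤ k K, (∀ l, ℓ l z = 0) → z = 0) : Function.Injective (baseMap k K A) := by
  refine (injective_iff_map_eq_zero _).2 fun z hz => hinj z ?_ fun l => ?_
  · show mapBaseChange ℤ k K z = 0
    rw [← mapBaseChange_baseMap k K A, hz, map_zero]
  · let d : Derivation ℤ A K := Derivation.mk' (g l).toIntLinearMap fun a b => by
      simp only [Algebra.smul_def]; exact hg l a b
    have hG : (d.liftKaehlerDifferential.liftBaseChange K).comp (baseMap k K A) = ℓ l := ext_D _ _ fun x => by
      rw [LinearMap.comp_apply, baseMap_D, LinearMap.liftBaseChange_tmul, one_smul,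
        Derivation.liftKaehlerDifferential_comp_D]
      exact hℓ x l
    rw [← hG, LinearMap.comp_apply, hz, map_zero]

/-- Injectivity of the differential map does not depend on the chosen residue field. -/
theorem injective_lTensor_iff [IsLocalRing A] (e : ResidueField A ≃ₐ[A] K) :
    Function.Injective ((mapBaseChange ℤ k A).lTensor (ResidueField A)) ↔
      Function.Injective ((mapBaseChange ℤ k A).lTensor K) := by
  have h : ∀ z, e.toLinearEquiv.rTensor Ω[A⁄ℤ] ((mapBaseChange ℤ k A).lTensor (ResidueField A) z) =
      (mapBaseChange ℤ k A).lTensor K (e.toLinearEquiv.rTensor (A ⊗[k] Ω[k⁄ℤ]) z) := fun z => by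
    induction z using TensorProduct.induction_on with
    | zero => simp
    | add _ _ hx hy => rw [map_add, map_add, map_add, map_add, hx, hy]
    | tmul r ω => rfl
  constructor
  · intro hi a b hab
    obtain ⟨a, rfl⟩ := (e.toLinearEquiv.rTensor _).surjective a
    obtain ⟨b, rfl⟩ := (e.toLinearEquiv.rTensor _).surjective b
    rw [← h, ← h] at hab
    exact congrArg _ (hi ((e.toLinearEquiv.rTensor _).injective hab))
  · intro hi a b hab
    have := congrArg (e.toLinearEquiv.rTensor Ω[A⁄ℤ]) hab
    rw [h, h] at this
    exact (e.toLinearEquiv.rTensor _).injective (hi this)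

/-- The imperfection module of the residue field of a formally smooth algebra is finite. -/
theorem finite_imperfection [IsLocalRing A] [IsNoetherianRing A]
    (h : CAlgX.IsAdicFormallySmooth k A (maximalIdeal A)) (e : ResidueField A ≃ₐ[A] K) :
    Module.Finite K (EGA41.imperfection ℤ k K) := by
  have hinj : Function.Injective (baseMap k K A) :=
    (injective_baseMap_iff k K A).2 ((injective_lTensor_iff e).1 ((Groth.Agent.S2471.result (k := k) (A := A)).1 h).2)
  have hsurj : Function.Surjective (algebraMap A K) := fun y => by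
    obtain ⟨a, ha⟩ := residue_surjective (e.symm y)
    refine ⟨a, ?_⟩
    rw [← e.commutes a, show algebraMap A (ResidueField A) a = e.symm y from ha, e.apply_symm_apply]
  let V : Submodule K (K ⊗[A] Ω[A⁄ℤ]) := LinearMap.ker (mapBaseChange ℤ A K)
  haveI : Module.Finite A (RingHom.ker (algebraMap A K)) := Module.Finite.iff_fg.2 (IsNoetherian.noetherian _)
  haveI : Module.Finite A (RingHom.ker (algebraMap A K)).Cotangent :=
    Module.Finite.of_surjective _ (Ideal.toCotangent_surjective _)
  haveI : Module.Finite A (V.restrictScalars A) := by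
    rw [← range_kerCotangentToTensor ℤ A K hsurj]
    infer_instance
  haveI : Module.Finite A V := ‹Module.Finite A (V.restrictScalars A)›
  haveI : Module.Finite K V := Module.Finite.of_restrictScalars_finite A K V
  haveI : IsNoetherian K V := isNoetherian_of_isNoetherianRing_of_finite K V
  exact Module.Finite.of_injective
    (((baseMap k K A).comp (EGA41.imperfection ℤ k K).subtype).codRestrict V fun z => by
      show mapBaseChange ℤ A K (baseMap k K A z.1) = 0
      rw [mapBaseChange_baseMap]
      exact z.2) fun a b hab => Subtype.ext (hinj (congrArg Subtype.val hab))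

end Groth.Agent.ImperfFS3
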