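import Groth.Agent.Lib.ImperfFS3.Basic
import Groth.Agent.Lib.AdicSmooth3.Lift
import Groth.Agent.Lib.NagJac3.Stage
import Groth.Agent.S4537
import Groth.Agent.Lib.H2Alg.PSHom
import Groth.Agent.Lib.ArtFun.PS
import Mathlib

/-! # Formally smooth power series algebras with prescribed residue field -/

set_option autoImplicit false
set_option linter.style.haveILetI false
set_option maxRecDepth 4000
universe u

namespace Groth.Agent.ImperfFS3

open TensorProduct KaehlerDifferential IsLocalRing MvPowerSeries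

variable {k K : Type u} [Field k] [Field K] [Algebra k K] {n : ℕ}

theorem X_mul_X_mem_sq (i j : Fin n) :
    (MvPowerSeries.X i * MvPowerSeries.X j : MvPowerSeries (Fin n) K) ∈ maximalIdeal (MvPowerSeries (Fin n) K) ^ 2 := by
  have h : ∀ i : Fin n, (MvPowerSeries.X i : MvPowerSeries (Fin n) K) ∈ maximalIdeal (MvPowerSeries (Fin n) K) :=
    fun i => by
      rw [mem_maximalIdeal, mem_nonunits_iff, MvPowerSeries.isUnit_iff_constantCoeff, constantCoeff_X]
      exact not_isUnit_zero
  rw [pow_two]
  exact Ideal.mul_mem_mul (h i) (h j)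

/-- Derivations of the base lift to a ring map into power series with given linear coefficients. -/
theorem exists_hom (D : Fin n → Derivation ℤ k K) :
    ∃ θ : k →+* MvPowerSeries (Fin n) K, (∀ x, constantCoeff (θ x) = algebraMap k K x) ∧
      ∀ x l, constantCoeff (MvPowerSeries.pderiv K l (θ x)) = D l x := by
  classical
  let C' := MvPowerSeries (Fin n) K
  let F : Subfield k := ⊥
  haveI : PerfectField F := PrimeField.perfectField_bot k
  haveI : Algebra.FormallySmooth F k := FieldFS.formallySmooth_of_perfectField (F := F) (L := k)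
  letI : Algebra F C' := ((MvPowerSeries.C).comp ((algebraMap k K).comp (algebraMap F k))).toAlgebra
  let 𝔠 : Ideal C' := maximalIdeal C'
  haveI : IsAdicComplete 𝔠 C' := ArtFunLib.isAdicComplete_mvPowerSeries
  let J : Ideal C' := 𝔠 ^ 2
  let lin : k → C' := fun x => MvPowerSeries.C (algebraMap k K x) + ∑ l, MvPowerSeries.C (D l x) * MvPowerSeries.X l
  have hmul : ∀ x y, lin (x * y) - lin x * lin y ∈ J := fun x y => by
    have h : lin (x * y) - lin x * lin y = -∑ i, ∑ j,
        (MvPowerSeries.C (D i x) * MvPowerSeries.C (D j y)) * (MvPowerSeries.X i * MvPowerSeries.X j) := by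
      have h1 : (∑ l, MvPowerSeries.C (D l (x * y)) * MvPowerSeries.X l : C') =
          MvPowerSeries.C (algebraMap k K x) * (∑ l, MvPowerSeries.C (D l y) * MvPowerSeries.X l) +
            MvPowerSeries.C (algebraMap k K y) * (∑ l, MvPowerSeries.C (D l x) * MvPowerSeries.X l) := by
        rw [Finset.mul_sum, Finset.mul_sum, ← Finset.sum_add_distrib]
        refine Finset.sum_congr rfl fun l _ => ?_
        rw [(D l).leibniz, Algebra.smul_def, Algebra.smul_def, map_add, map_mul, map_mul]
        ring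
      have h2 : (∑ i, ∑ j, (MvPowerSeries.C (D i x) * MvPowerSeries.C (D j y)) * (MvPowerSeries.X i * MvPowerSeries.X j) : C') =
          (∑ l, MvPowerSeries.C (D l x) * MvPowerSeries.X l) * (∑ l, MvPowerSeries.C (D l y) * MvPowerSeries.X l) := by
        rw [Finset.sum_mul_sum]
        exact Finset.sum_congr rfl fun i _ => Finset.sum_congr rfl fun j _ => by ring
      simp only [lin]
      rw [h1, h2, map_mul, map_mul]
      ring
    rw [h]
    exact neg_mem (sum_mem fun i _ => sum_mem fun j _ => Ideal.mul_mem_left _ _ (X_mul_X_mem_sq i j))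
  have hF : ∀ (l : Fin n) (c : F), D l (c : k) = 0 := fun l c => by
    have h0 : F ≤ NagJac3.constSubfield (RingHom.id k) (D l) := bot_le
    exact h0 c.2
  let u : k →ₐ[F] C' ⧸ J :=
    { toFun := fun x => Ideal.Quotient.mk J (lin x)
      map_one' := by simp [lin]
      map_mul' := fun x y => by rw [← map_mul]; exact Ideal.Quotient.eq.2 (hmul x y)
      map_zero' := by simp [lin]
      map_add' := fun x y => by
        rw [← map_add]
        refine congrArg _ ?_
        simp only [lin, map_add, add_mul, Finset.sum_add_distrib]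
        ring
      commutes' := fun c => by
        show Ideal.Quotient.mk J (lin (c : k)) = Ideal.Quotient.mk J (MvPowerSeries.C (algebraMap k K (c : k)))
        simp [lin, hF] }
  have hB : EGA41.IsFormallySmoothAdic F (⊥ : Ideal F) k (⊥ : Ideal k) :=
    (Groth.Agent.S4537.result (A := F) (⊥ : Ideal k)).1 fun C _ _ N hN ψ _ =>
      ⟨Algebra.FormallySmooth.lift N ⟨2, hN⟩ ψ, Algebra.FormallySmooth.comp_lift N ⟨2, hN⟩ ψ⟩
  haveI : IsHausdorff (𝔠.map (Ideal.Quotient.mk J)) (C' ⧸ J) := ⟨fun x hx => by
    have h2 := hx 2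
    rw [SModEq.zero, smul_eq_mul, Ideal.mul_top, ← Ideal.map_pow, Ideal.map_quotient_self, Ideal.mem_bot] at h2
    exact h2⟩
  obtain ⟨v, -, hv⟩ := AdicSmooth3.exists_lift (𝔞 := (⊥ : Ideal F)) (𝔟 := (⊥ : Ideal k)) (𝔠 := 𝔠) hB ⟨1, by rw [pow_one, Ideal.map_bot]; exact bot_le⟩ J
    ⟨1, by rw [pow_one]; exact Ideal.pow_le_self two_ne_zero⟩ u ⟨1, by rw [pow_one, Ideal.map_bot]; exact bot_le⟩
  have hv' : ∀ x, v x - lin x ∈ J := fun x => Ideal.Quotient.eq.1 (AlgHom.congr_fun hv x)
  have hm0 : ∀ z ∈ 𝔠, constantCoeff z = 0 := fun z hz => by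
    by_contra h0
    exact hz (MvPowerSeries.isUnit_iff_constantCoeff.2 (Ne.isUnit h0))
  have hcl : ∀ x, constantCoeff (lin x) = algebraMap k K x := fun x => by simp [lin]
  refine ⟨v.toRingHom, fun x => ?_, fun x l => ?_⟩
  · show constantCoeff (v x) = _
    rw [← hcl x, ← sub_eq_zero, ← map_sub]
    exact hm0 _ (Ideal.pow_le_self two_ne_zero (hv' x))
  · have hz : ∀ z ∈ J, constantCoeff (MvPowerSeries.pderiv K l z) = 0 := fun z hz => by
      change z ∈ 𝔠 ^ 2 at hz
      rw [pow_two] at hz
      refine Submodule.mul_induction_on hz (fun a ha b hb => ?_) fun a b ha hb => by rw [map_add, map_add, ha, hb, add_zero]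
      rw [Derivation.leibniz, smul_eq_mul, smul_eq_mul, map_add, map_mul, map_mul, hm0 a ha, hm0 b hb, zero_mul,
        zero_mul, add_zero]
    have h1 := hz _ (hv' x)
    rw [map_sub, map_sub, sub_eq_zero] at h1
    refine h1.trans ?_
    simp [lin, Derivation.leibniz, MvPowerSeries.pderiv_C, MvPowerSeries.pderiv_X, Pi.single_apply]

/-- A power series algebra with given residual derivations is formally smooth. -/
theorem isAdicFormallySmooth_powerSeries [Algebra k (MvPowerSeries (Fin n) K)]
    (h0 : ∀ x, constantCoeff (algebraMap k (MvPowerSeries (Fin n) K) x) = algebraMap k K x)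
    (ℓ : Fin n → (K ⊗[k] Ω[k⁄ℤ] →ₗ[K] K))
    (hℓ : ∀ x l, constantCoeff (MvPowerSeries.pderiv K l (algebraMap k (MvPowerSeries (Fin n) K) x)) = ℓ l (1 ⊗ₜ D ℤ k x))
    (hinj : ∀ z ∈ EGA41.imperfection ℤ k K, (∀ l, ℓ l z = 0) → z = 0) :
    CAlgX.IsAdicFormallySmooth k (MvPowerSeries (Fin n) K) (maximalIdeal (MvPowerSeries (Fin n) K)) ∧
      Nonempty (ResidueField (MvPowerSeries (Fin n) K) ≃ₐ[k] K) := by
  classical
  let A := MvPowerSeries (Fin n) K
  letI : Algebra A K := (constantCoeff (σ := Fin n) (R := K)).toAlgebra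
  haveI : IsScalarTower k A K := .of_algebraMap_eq fun x => (h0 x).symm
  have hm : maximalIdeal A = RingHom.ker (algebraMap A K) :=
    Ideal.ext fun z => by
      rw [mem_maximalIdeal, mem_nonunits_iff, MvPowerSeries.isUnit_iff_constantCoeff, isUnit_iff_ne_zero, not_not]
      exact Iff.rfl
  let e : ResidueField A ≃ₐ[A] K :=
    (Ideal.quotientEquivAlgOfEq A hm).trans (Ideal.quotientKerAlgEquivOfSurjective (f := Algebra.ofId A K)
      fun c => ⟨MvPowerSeries.C c, constantCoeff_C c⟩)
  haveI : IsRegularLocalRing A := H2Alg.PSHom.isRegularLocalRing K n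
  refine ⟨(Groth.Agent.S2471.result (k := k) (A := A)).2 ⟨inferInstance,
    (injective_lTensor_iff e).2 ((injective_baseMap_iff k K A).1 (injective_baseMap_of_derivations
      (fun l => (constantCoeff (σ := Fin n) (R := K)).toAddMonoidHom.comp (MvPowerSeries.pderiv K l).toLinearMap.toAddMonoidHom)
      (fun l a b => by
        show constantCoeff (MvPowerSeries.pderiv K l (a * b)) =
          constantCoeff a * constantCoeff (MvPowerSeries.pderiv K l b) + constantCoeff b * constantCoeff (MvPowerSeries.pderiv K l a)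
        rw [Derivation.leibniz, smul_eq_mul, smul_eq_mul, map_add, map_mul, map_mul])
      ℓ hℓ hinj))⟩, ⟨e.restrictScalars k⟩⟩

/-- Formally smooth complete algebras with given residue field exist in all large dimensions. -/
theorem exists_algebra [Module.Finite K (EGA41.imperfection ℤ k K)] {n : ℕ}
    (hn : Module.finrank K (EGA41.imperfection ℤ k K) ≤ n) :
    ∃ (A : Type u) (_ : CommRing A) (_ : IsLocalRing A) (_ : IsNoetherianRing A) (_ : Algebra k A),
      IsAdicComplete (maximalIdeal A) A ∧ CAlgX.IsAdicFormallySmooth k A (maximalIdeal A) ∧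
      Nonempty (ResidueField A ≃ₐ[k] K) ∧ ringKrullDim A = n := by
  classical
  let Γ := EGA41.imperfection ℤ k K
  haveI : Module.Free K Γ := Module.Free.of_divisionRing K Γ
  let b := Module.finBasis K Γ
  choose g hg using fun l : Fin n => LinearMap.exists_extend
    (if h : (l : ℕ) < Module.finrank K Γ then b.coord ⟨l, h⟩ else 0 : Γ →ₗ[K] K)
  let D' : Fin n → Derivation ℤ k K := fun l =>
    (((g l).restrictScalars k).comp ((TensorProduct.mk k K Ω[k⁄ℤ] 1))).compDer (D ℤ k)
  obtain ⟨θ, hθ0, hθ⟩ := exists_hom D'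
  letI : Algebra k (MvPowerSeries (Fin n) K) := θ.toAlgebra
  obtain ⟨h1, h2⟩ := isAdicFormallySmooth_powerSeries hθ0 g hθ fun z hz hzl => by
    have h : (⟨z, hz⟩ : Γ) = 0 := b.ext_elem fun i => by
      have h3 := LinearMap.congr_fun (hg ⟨i, i.2.trans_le hn⟩) ⟨z, hz⟩
      rw [LinearMap.comp_apply, Submodule.coe_subtype, hzl, dif_pos i.2, Module.Basis.coord_apply] at h3
      rw [map_zero, Finsupp.zero_apply, h3]
    exact congrArg Subtype.val h
  exact ⟨MvPowerSeries (Fin n) K, inferInstance, inferInstance, inferInstance, θ.toAlgebra,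
    ArtFunLib.isAdicComplete_mvPowerSeries, h1, h2, H2Alg.PSHom.ringKrullDim_eq K n⟩

end Groth.Agent.ImperfFS3
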